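import Groth.Prelude.Def_W4c3irrattreebunCvg
import Mathlib.FieldTheory.AlgebraicClosure
import Mathlib.FieldTheory.IntermediateField.Adjoin.Algebra

/-!
# Covering diagrams and the field of constants
-/

set_option autoImplicit false

universe u

open W4c3irrattreebun IntermediateField

namespace Groth.Agent.MiscTwoH99.Gon

variable {k K : Type u} [Field k] [Field K] [Algebra k K]

/-- A diagram over the constants is one over `k`. -/
theorem toBase {e : ℕ} (D : CovDiag.{u} (algebraicClosure k K) K e) :
    ∃ D' : CovDiag.{u} k K e, Algebra.IsSeparable K D.KC → Algebra.IsSeparable K D'.KC := by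
  letI : Algebra (algebraicClosure k K) D.KC := D.algkC
  haveI := D.towerK
  haveI := D.towerB
  letI : Algebra k D.KC := Algebra.compHom D.KC (algebraMap k K)
  letI : Algebra k D.KB := Algebra.compHom D.KB (algebraMap k (algebraicClosure k K))
  haveI : IsScalarTower k K D.KC := IsScalarTower.of_algebraMap_eq fun _ => rfl
  haveI : IsScalarTower k D.KB D.KC := IsScalarTower.of_algebraMap_eq fun c =>
    (congrArg (algebraMap K D.KC) (IsScalarTower.algebraMap_apply k (algebraicClosure k K) K c)).trans
      ((IsScalarTower.algebraMap_apply (algebraicClosure k K) K D.KC _).symm.trans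
        (IsScalarTower.algebraMap_apply (algebraicClosure k K) D.KB D.KC _))
  exact ⟨{ KC := D.KC, KB := D.KB, t := D.t, transc := D.transc, finrank_eq := D.finrank_eq }, fun h => h⟩

/-- A diagram over `k` gives one over the constants of no larger degree. -/
theorem toConstants {e : ℕ} (D : CovDiag.{u} k K e) :
    ∃ e' ≤ e, ∃ D' : CovDiag.{u} (algebraicClosure k K) K e',
      Algebra.IsSeparable K D.KC → Algebra.IsSeparable K D'.KC := by
  let B := algebraicClosure D.KB D.KC
  have hmem : ∀ c : algebraicClosure k K, algebraMap K D.KC c ∈ B := fun c =>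
    mem_algebraicClosure_iff.mpr <| ((mem_algebraicClosure_iff.mp c.2).algHom (IsScalarTower.toAlgHom k K D.KC)).tower_top D.KB
  letI : Algebra (algebraicClosure k K) B :=
    (((algebraMap K D.KC).comp (algebraMap (algebraicClosure k K) K)).codRestrict B hmem).toAlgebra
  letI : Algebra (algebraicClosure k K) D.KC := Algebra.compHom D.KC (algebraMap (algebraicClosure k K) K)
  haveI : IsScalarTower (algebraicClosure k K) K D.KC := IsScalarTower.of_algebraMap_eq fun _ => rfl
  haveI : IsScalarTower (algebraicClosure k K) B D.KC := IsScalarTower.of_algebraMap_eq fun _ => rfl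
  have htr : Transcendental B D.t := by
    intro h
    haveI : Algebra.IsAlgebraic D.KB B := algebraicClosure.isAlgebraic D.KB D.KC
    exact D.transc (h.restrictScalars D.KB)
  let F := IntermediateField.adjoin D.KB ({D.t} : Set D.KC)
  let F' := IntermediateField.adjoin B ({D.t} : Set D.KC)
  have hle : F ≤ F'.restrictScalars D.KB :=
    IntermediateField.adjoin_le_iff.mpr (IntermediateField.subset_adjoin B ({D.t} : Set D.KC))
  letI : Algebra F F' := (IntermediateField.inclusion hle).toAlgebra
  haveI : IsScalarTower F F' D.KC := IsScalarTower.of_algebraMap_eq fun _ => rfl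
  haveI : Module.Finite F' D.KC := Module.Finite.of_restrictScalars_finite F F' D.KC
  haveI : Module.Finite F F' := FiniteDimensional.left F F' D.KC
  refine ⟨Module.finrank F' D.KC, ?_,
    { KC := D.KC, KB := B, algkC := Algebra.compHom D.KC (algebraMap (algebraicClosure k K) K), towerK := IsScalarTower.of_algebraMap_eq fun _ => rfl, towerB := IsScalarTower.of_algebraMap_eq fun _ => rfl, t := D.t, transc := htr, finrank_eq := rfl }, fun h => h⟩
  refine le_of_le_of_eq ?_ D.finrank_eq
  rw [← Module.finrank_mul_finrank F F' D.KC]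
  exact Nat.le_mul_of_pos_left _ Module.finrank_pos

theorem sInf_eq_of_mutual {S T : Set ℕ} (h₁ : T ⊆ S) (h₂ : ∀ e ∈ S, ∃ e' ≤ e, e' ∈ T) : sInf S = sInf T := by
  rcases S.eq_empty_or_nonempty with hS | hS
  · rw [hS, Set.subset_empty_iff.mp (h₁.trans hS.le)]
  · obtain ⟨e', he', heT⟩ := h₂ _ (Nat.sInf_mem hS)
    exact le_antisymm (Nat.sInf_le (h₁ (Nat.sInf_mem ⟨e', heT⟩))) ((Nat.sInf_le heT).trans he')

theorem cvg_eq : cvg k K = cvg (algebraicClosure k K) K :=
  sInf_eq_of_mutual (fun _ ⟨D⟩ => ⟨(toBase D).choose⟩) fun _ ⟨D⟩ => by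
    obtain ⟨e', he', D', -⟩ := toConstants D
    exact ⟨e', he', ⟨D'⟩⟩

theorem scvg_eq : scvg k K = scvg (algebraicClosure k K) K :=
  sInf_eq_of_mutual (fun _ ⟨D, hD⟩ => ⟨(toBase D).choose, (toBase D).choose_spec hD⟩) fun _ ⟨D, hD⟩ => by
    obtain ⟨e', he', D', h⟩ := toConstants D
    exact ⟨e', he', D', h hD⟩

end Groth.Agent.MiscTwoH99.Gon
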